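import Mathlib
import Cfsg.Prelude.Def_Spor_Fi23
import Cfsg.Agent.H93.CosetCox
import Cfsg.Agent.H93.CosetFast

/-!
A checked coset table (generated data).
-/

set_option autoImplicit false
set_option maxRecDepth 100000
set_option linter.all false
set_option Elab.async false

namespace H93
namespace Fi23LC

open Coset

noncomputable section

noncomputable def tT0 : ℕ := 0x0

noncomputable def tT1 : ℕ := 0x0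

noncomputable def tT2 : ℕ := 0x0

noncomputable def tT3 : ℕ := 0x0

noncomputable def tT4 : ℕ := 0x0

noncomputable def tT5 : ℕ := 0x0

noncomputable def tT6 : ℕ := 0x0

noncomputable def tT7 : ℕ := 0x0

noncomputable def tT8 : ℕ := 0x0

noncomputable def tT9 : ℕ := 0x0

noncomputable def tTsel (g : ℕ) : ℕ := bif Nat.beq g 0 then tT0 else bif Nat.beq g 1 then tT1 else bif Nat.beq g 2 then tT2 else bif Nat.beq g 3 then tT3 else bif Nat.beq g 4 then tT4 else bif Nat.beq g 5 then tT5 else bif Nat.beq g 6 then tT6 else bif Nat.beq g 7 then tT7 else bif Nat.beq g 8 then tT8 else tT9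

noncomputable def tT (g c : ℕ) : ℕ := Nat.land (Nat.shiftRight (tTsel g) (16 * c)) 65535

noncomputable def tM0 : ℕ := 0x1

noncomputable def tM1 : ℕ := 0x2

noncomputable def tM2 : ℕ := 0x3

noncomputable def tM3 : ℕ := 0x4

noncomputable def tM4 : ℕ := 0x6

noncomputable def tM5 : ℕ := 0x7

noncomputable def tM6 : ℕ := 0x8

noncomputable def tM7 : ℕ := 0x9

noncomputable def tM8 : ℕ := 0x5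

noncomputable def tM9 : ℕ := 0xa

noncomputable def tMsel (g : ℕ) : ℕ := bif Nat.beq g 0 then tM0 else bif Nat.beq g 1 then tM1 else bif Nat.beq g 2 then tM2 else bif Nat.beq g 3 then tM3 else bif Nat.beq g 4 then tM4 else bif Nat.beq g 5 then tM5 else bif Nat.beq g 6 then tM6 else bif Nat.beq g 7 then tM7 else bif Nat.beq g 8 then tM8 else tM9

noncomputable def tM (g c : ℕ) : ℕ := Nat.land (Nat.shiftRight (tMsel g) (8 * c)) 255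

noncomputable def tJ0 : ℕ := 0x2

noncomputable def tJ1 : ℕ := 0x102

noncomputable def tJ2 : ℕ := 0x202

noncomputable def tJ3 : ℕ := 0x302

noncomputable def tJ4 : ℕ := 0x502

noncomputable def tJ5 : ℕ := 0x602

noncomputable def tJ6 : ℕ := 0x702

noncomputable def tJ7 : ℕ := 0x376

noncomputable def tJ8 : ℕ := 0x402

noncomputable def tJ9 : ℕ := 0x802

noncomputable def tJsel (g : ℕ) : ℕ := bif Nat.beq g 0 then tJ0 else bif Nat.beq g 1 then tJ1 else bif Nat.beq g 2 then tJ2 else bif Nat.beq g 3 then tJ3 else bif Nat.beq g 4 then tJ4 else bif Nat.beq g 5 then tJ5 else bif Nat.beq g 6 then tJ6 else bif Nat.beq g 7 then tJ7 else bif Nat.beq g 8 then tJ8 else tJ9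

noncomputable def tJ (g c : ℕ) : ℕ := Nat.land (Nat.shiftRight (tJsel g) (16 * c)) 65535

noncomputable def tPA0 : ℕ := 0x0
noncomputable def tPA (c : ℕ) : ℕ := Nat.land (Nat.shiftRight tPA0 (8 * c)) 255

def patch0d0 : List (ℕ × ℕ) := [(0,0),(0,1),(0,2),(0,3),(0,4),(0,5),(0,6),(0,7),(0,8),(3,0),(4,0),(5,0),(6,0),(7,0),(8,0),(9,0),(4,1),(5,1),(6,1),(7,1),(8,1),(9,1),(5,2),(6,2),(7,2),(8,2),(9,2),(6,3),(7,3),(7,4),(8,4),(8,5),(9,5),(9,7),(2,0),(35,1),(36,0),(3,1),(38,2),(39,1),(9,3),(41,8),(42,3),(6,4),(7,5),(45,6),(46,5),(8,6),(48,7),(49,6),(43,2),(51,7),(52,6),(53,0),(11,1),(12,1),(13,1),(13,2),(14,2),(15,2),(16,2),(13,3),(14,3),(14,4),(15,4),(16,5),(16,7),(10,1),(16,3),(69,8),(70,3),(13,4),(15,6),(17,0),(18,0),(19,0),(19,2),(21,2),(22,2),(19,3),(20,3),(22,7),(22,3),(83,8),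(84,3),(20,5),(21,6),(24,1),(25,4),(26,4),(27,4),(27,5),(27,7),(24,4),(94,5),(95,4),(26,6),(97,7),(98,6),(28,2),(43,5),(74,1),(28,4),(29,5),(104,6),(105,5),(93,6),(107,0),(101,4),(31,6),(110,7),(111,6),(76,1),(88,2),(33,3),(115,8),(32,6),(101,2),(118,7),(50,5),(34,6),(48,5),(122,6),(115,4),(58,1),(60,4),(61,7),(60,6),(128,7),(129,6),(62,1),(71,5),(62,4),(63,5),(127,6),(135,0),(132,4),(64,1),(66,3),(139,8),(67,6),(80,0),(85,5),(81,5),(79,7),(143,4),(87,2),(82,2),(90,5),(91,6),(91,7),(89,5),(90,6),(153,7),(154,6)]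

def patch0f0 : List Fact := [(0,0,1,0,[],[]),(0,1,2,0,[],[]),(0,2,3,0,[],[]),(0,3,4,0,[],[]),(0,4,5,0,[],[]),(0,5,6,0,[],[]),(0,6,7,0,[],[]),(0,7,8,0,[],[]),(0,8,9,0,[],[]),(3,0,10,0,[],[]),(10,2,1,4,[(1,0,2),(1,0,9)],[(1,0,0)]),(4,0,11,0,[],[]),(11,3,1,5,[(1,0,3),(1,0,11)],[(1,0,0)]),(5,0,12,0,[],[]),(12,4,1,6,[(1,0,4),(1,0,13)],[(1,0,0)]),(6,0,13,0,[],[]),(13,5,1,7,[(1,0,5),(1,0,15)],[(1,0,0)]),(7,0,14,0,[],[]),(14,6,1,8,[(1,0,6),(1,0,17)],[(1,0,0)]),(8,0,15,0,[],[]),(15,7,1,9,[(1,0,7),(1,0,19)],[(1,0,0)]),(9,0,16,0,[],[]),(16,8,1,10,[(1,0,8),(1,0,21)],[(1,0,0)]),(4,1,17,0,[],[]),(17,3,2,14,[(1,0,3),(1,0,23)],[(1,0,1)]),(5,1,18,0,[],[]),(18,4,2,15,[(1,0,4),(1,0,25)],[(1,0,1)]),(6,1,19,0,[],[]),(19,5,2,16,[(1,0,5),(1,0,27)],[(1,0,1)]),(7,1,20,0,[],[]),(20,6,2,17,[(1,0,6),(1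,0,29)],[(1,0,1)]),(8,1,21,0,[],[]),(21,7,2,18,[(1,0,7),(1,0,31)],[(1,0,1)]),(9,1,22,0,[],[]),(22,8,2,19,[(1,0,8),(1,0,33)],[(1,0,1)]),(5,2,23,0,[],[]),(23,4,3,23,[(1,0,4),(1,0,35)],[(1,0,2)]),(6,2,24,0,[],[]),(24,5,3,24,[(1,0,5),(1,0,37)],[(1,0,2)]),(7,2,25,0,[],[]),(25,6,3,25,[(1,0,6),(1,0,39)],[(1,0,2)]),(8,2,26,0,[],[]),(26,7,3,26,[(1,0,7),(1,0,41)],[(1,0,2)]),(9,2,27,0,[],[]),(27,8,3,27,[(1,0,8),(1,0,43)],[(1,0,2)]),(6,3,28,0,[],[]),(28,5,4,31,[(1,0,5),(1,0,45)],[(1,0,3)]),(7,3,29,0,[],[]),(29,6,4,32,[(1,0,6),(1,0,47)],[(1,0,3)]),(7,4,30,0,[],[]),(30,6,5,38,[(1,0,6),(1,0,49)],[(1,0,4)]),(8,4,31,0,[],[]),(31,7,5,39,[(1,0,7),(1,0,51)],[(1,0,4)]),(8,5,32,0,[],[]),(32,7,6,44,[(1,0,7),(1,0,53)],[(1,0,5)]),(9,5,33,0,[],[]),(33,8,6,45,[(1,0,8),(1,0,55)],[(1,0,5)]),(9,7,34,0,[],[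]),(34,8,8,52,[(1,0,8),(1,0,57)],[(1,0,7)]),(2,0,35,0,[],[]),(35,1,36,0,[],[]),(36,0,37,0,[],[]),(37,1,1,3,[(1,0,1),(1,0,59),(1,0,60),(1,0,61)],[(1,0,0)]),(3,1,38,0,[],[]),(38,2,39,0,[],[]),(39,1,40,0,[],[]),(40,2,2,13,[(1,0,2),(1,0,63),(1,0,64),(1,0,65)],[(1,0,1)]),(9,3,41,0,[],[]),(41,8,42,0,[],[]),(42,3,43,0,[],[]),(43,8,4,34,[(1,0,8),(1,0,67),(1,0,68),(1,0,69)],[(1,0,3)]),(6,4,44,0,[],[]),(7,5,45,0,[],[]),(45,6,46,0,[],[]),(46,5,47,0,[],[]),(47,6,6,43,[(1,0,6),(1,0,72),(1,0,73),(1,0,74)],[(1,0,5)]),(8,6,48,0,[],[]),(48,7,49,0,[],[]),(49,6,50,0,[],[]),(50,7,7,48,[(1,0,7),(1,0,76),(1,0,77),(1,0,78)],[(1,0,6)]),(43,2,51,0,[],[]),(51,7,52,0,[],[]),(52,6,53,0,[],[]),(53,0,54,0,[],[]),(54,4,19,59,[(1,0,3),(2,0,70),(1,0,80),(1,0,81),(1,0,82),(1,0,83)],[(1,0,1),(2,0,28)]),(44,1,54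,15,[(1,0,71)],[(1,0,27),(2,0,84)]),(11,1,55,0,[],[]),(12,1,56,0,[],[]),(56,4,37,15,[(2,0,14),(1,0,87)],[(2,0,62)]),(13,1,57,0,[],[]),(57,5,37,16,[(2,0,16),(1,0,89)],[(2,0,62)]),(13,2,58,0,[],[]),(58,5,10,24,[(2,0,16),(1,0,91)],[(2,0,10)]),(14,2,59,0,[],[]),(59,6,10,25,[(2,0,18),(1,0,93)],[(2,0,10)]),(15,2,60,0,[],[]),(60,7,10,26,[(2,0,20),(1,0,95)],[(2,0,10)]),(16,2,61,0,[],[]),(13,3,62,0,[],[]),(62,5,11,31,[(2,0,16),(1,0,98)],[(2,0,12)]),(14,3,63,0,[],[]),(63,6,11,32,[(2,0,18),(1,0,100)],[(2,0,12)]),(14,4,64,0,[],[]),(64,6,12,38,[(2,0,18),(1,0,102)],[(2,0,14)]),(15,4,65,0,[],[]),(65,7,12,39,[(2,0,20),(1,0,104)],[(2,0,14)]),(16,5,66,0,[],[]),(66,8,13,45,[(2,0,22),(1,0,106)],[(2,0,16)]),(16,7,67,0,[],[]),(67,8,15,52,[(2,0,22),(1,0,108)],[(2,0,20)]),(10,1,68,0,[],[]),(16,3,69,0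,[],[]),(69,8,70,0,[],[]),(70,3,71,0,[],[]),(71,8,11,34,[(2,0,22),(1,0,111),(1,0,112),(1,0,113)],[(2,0,12)]),(13,4,72,0,[],[]),(15,6,73,0,[],[]),(59,0,25,4,[(1,0,93)],[(2,0,17),(1,0,39)]),(60,0,26,4,[(1,0,95)],[(2,0,19),(1,0,41)]),(61,0,27,4,[(1,0,97)],[(2,0,21),(1,0,43)]),(62,0,28,5,[(1,0,98)],[(2,0,15),(1,0,45)]),(63,0,29,5,[(1,0,100)],[(2,0,17),(1,0,47)]),(64,0,30,6,[(1,0,102)],[(2,0,17),(1,0,49)]),(66,0,33,7,[(1,0,106)],[(2,0,21),(1,0,55)]),(71,0,43,10,[(2,0,114)],[(2,0,11),(2,0,70)]),(17,0,74,0,[],[]),(18,0,75,0,[],[]),(75,4,35,6,[(2,0,26),(1,0,126)],[(1,0,59)]),(19,0,76,0,[],[]),(76,5,35,7,[(2,0,28),(1,0,128)],[(1,0,59)]),(19,2,77,0,[],[]),(77,5,40,24,[(2,0,28),(1,0,130)],[(2,0,66)]),(21,2,78,0,[],[]),(78,7,40,26,[(2,0,32),(1,0,132)],[(2,0,66)]),(22,2,79,0,[],[]),(19,3,8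0,0,[],[]),(80,5,17,31,[(2,0,28),(1,0,135)],[(2,0,24)]),(20,3,81,0,[],[]),(81,6,17,32,[(2,0,30),(1,0,137)],[(2,0,24)]),(22,7,82,0,[],[]),(82,8,21,52,[(2,0,34),(1,0,139)],[(2,0,32)]),(22,3,83,0,[],[]),(83,8,84,0,[],[]),(84,3,85,0,[],[]),(85,8,17,34,[(2,0,34),(1,0,141),(1,0,142),(1,0,143)],[(2,0,24)]),(20,5,86,0,[],[]),(21,6,87,0,[],[]),(83,1,41,14,[(1,0,141)],[(2,0,33),(1,0,67)]),(86,1,45,16,[(1,0,145)],[(2,0,29),(1,0,72)]),(24,1,88,0,[],[])]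

def patch0f150 : List Fact := [(25,4,89,0,[],[]),(89,6,23,38,[(2,0,40),(1,0,150)],[(2,0,36)]),(26,4,90,0,[],[]),(90,7,23,39,[(2,0,42),(1,0,152)],[(2,0,36)]),(27,4,91,0,[],[]),(91,8,23,40,[(2,0,44),(1,0,154)],[(2,0,36)]),(27,5,92,0,[],[]),(92,8,24,45,[(2,0,44),(1,0,156)],[(2,0,38)]),(27,7,93,0,[],[]),(24,4,94,0,[],[]),(94,5,95,0,[],[]),(95,4,96,0,[],[]),(96,5,23,37,[(2,0,38),(1,0,159),(1,0,160),(1,0,161)],[(2,0,36)]),(26,6,97,0,[],[]),(97,7,98,0,[],[]),(98,6,99,0,[],[]),(99,7,25,48,[(2,0,42),(1,0,163),(1,0,164),(1,0,165)],[(2,0,40)]),(89,2,30,23,[(1,0,150)],[(2,0,39),(1,0,49)]),(90,2,31,23,[(1,0,152)],[(2,0,41),(1,0,51)]),(92,2,33,24,[(1,0,156)],[(2,0,43),(1,0,55)]),(97,2,48,25,[(1,0,163)],[(2,0,41),(1,0,76)]),(93,2,34,26,[(1,0,158)],[(2,0,43),(1,0,57)]),(28,2,100,0,[],[]),(4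3,5,101,0,[],[]),(101,8,28,45,[(2,0,70),(1,0,173)],[(2,0,46)]),(74,1,102,0,[],[]),(102,0,55,3,[(1,0,23),(1,0,125),(1,0,175)],[(1,0,11),(1,0,86)]),(28,4,103,0,[],[]),(29,5,104,0,[],[]),(104,6,105,0,[],[]),(105,5,106,0,[],[]),(106,6,28,43,[(2,0,48),(1,0,178),(1,0,179),(1,0,180)],[(2,0,46)]),(93,6,107,0,[],[]),(107,0,108,0,[],[]),(108,4,80,59,[(2,0,3),(1,0,8),(1,0,43),(1,0,158),(1,0,182),(1,0,183)],[(1,0,23),(2,0,136)]),(101,4,109,0,[],[]),(106,3,47,32,[(2,0,181)],[(2,0,45),(2,0,75)]),(109,8,103,40,[(2,0,174),(1,0,185)],[(1,0,177)]),(31,6,110,0,[],[]),(110,7,111,0,[],[]),(111,6,112,0,[],[]),(112,7,30,48,[(2,0,52),(1,0,188),(1,0,189),(1,0,190)],[(2,0,50)]),(110,4,48,38,[(1,0,188)],[(2,0,51),(1,0,76)]),(112,4,50,39,[(2,0,191)],[(2,0,49),(2,0,79)]),(76,1,113,0,[],[]),(113,0,57,3,[(1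,0,27),(1,0,128),(1,0,194)],[(1,0,15),(1,0,89)]),(88,2,114,0,[],[]),(114,1,77,13,[(1,0,37),(1,0,149),(1,0,196)],[(1,0,27),(1,0,130)]),(33,3,115,0,[],[]),(115,8,116,0,[],[]),(116,3,101,34,[(2,0,56),(1,0,198),(1,0,199)],[(1,0,45),(2,0,174)]),(32,6,117,0,[],[]),(101,2,118,0,[],[]),(118,7,119,0,[],[]),(119,6,75,59,[(1,0,45),(2,0,174),(1,0,202),(1,0,203)],[(1,0,27),(1,0,28),(2,0,26),(1,0,126)]),(118,8,100,27,[(2,0,174),(1,0,202)],[(1,0,172)]),(46,3,105,31,[(2,0,74)],[(2,0,186),(2,0,180)]),(41,5,115,31,[(2,0,55),(1,0,67)],[(1,0,198)]),(50,5,120,0,[],[]),(34,6,121,0,[],[]),(121,8,48,49,[(2,0,58),(1,0,209)],[(1,0,76)]),(48,5,122,0,[],[]),(122,6,123,0,[],[]),(123,5,117,43,[(1,0,76),(1,0,211),(1,0,212)],[(1,0,53),(1,0,201)]),(121,2,107,25,[(1,0,209)],[(2,0,171),(1,0,182)]),(107,8,97,27,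[(2,0,210),(1,0,214)],[(2,0,170)]),(115,4,124,0,[],[]),(58,1,125,0,[],[]),(125,5,68,16,[(2,0,92),(1,0,217)],[(1,0,110)]),(60,4,126,0,[],[]),(61,7,127,0,[],[]),(60,6,128,0,[],[]),(128,7,129,0,[],[]),(129,6,130,0,[],[]),(130,7,59,48,[(2,0,96),(1,0,221),(1,0,222),(1,0,223)],[(2,0,94)]),(126,0,90,6,[(1,0,219)],[(1,0,118),(1,0,152)]),(128,0,97,8,[(1,0,221)],[(1,0,118),(1,0,163)]),(130,0,99,9,[(2,0,224)],[(1,0,117),(2,0,166)]),(127,0,93,9,[(1,0,220)],[(1,0,119),(1,0,158)]),(126,2,65,23,[(1,0,219)],[(2,0,95),(1,0,104)]),(128,2,73,25,[(1,0,221)],[(2,0,95),(1,0,116)]),(127,2,67,26,[(1,0,220)],[(2,0,97),(1,0,108)]),(62,1,131,0,[],[]),(131,5,55,16,[(2,0,99),(1,0,232)],[(1,0,86)]),(71,5,132,0,[],[]),(132,8,62,45,[(2,0,114),(1,0,234)],[(2,0,99)]),(62,4,133,0,[],[]),(63,5,134,0,[],[]),(127,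6,135,0,[],[]),(135,0,136,0,[],[]),(136,4,131,59,[(1,0,12),(2,0,22),(1,0,97),(1,0,220),(1,0,238),(1,0,239)],[(1,0,86),(2,0,233)]),(132,4,137,0,[],[]),(133,0,103,6,[(1,0,236)],[(1,0,120),(1,0,177)]),(134,0,104,7,[(1,0,237)],[(1,0,121),(1,0,178)]),(132,0,101,7,[(1,0,234)],[(1,0,124),(1,0,173)]),(57,3,131,14,[(2,0,98),(1,0,89)],[(1,0,232)]),(137,8,133,40,[(2,0,235),(1,0,241)],[(1,0,236)]),(64,1,138,0,[],[]),(138,6,56,17,[(2,0,103),(1,0,247)],[(1,0,87)]),(66,3,139,0,[],[]),(139,8,140,0,[],[]),(140,3,132,34,[(2,0,107),(1,0,249),(1,0,250)],[(1,0,98),(2,0,235)]),(139,0,115,5,[(1,0,249)],[(1,0,123),(1,0,198)]),(36,5,113,7,[(1,0,90),(2,0,61)],[(2,0,195)]),(67,6,141,0,[],[]),(141,8,73,49,[(2,0,109),(1,0,254)],[(1,0,116)]),(141,2,135,25,[(1,0,254)],[(2,0,231),(1,0,238)]),(135,8,128,27,[(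2,0,255),(1,0,256)],[(2,0,230)]),(80,0,142,0,[],[]),(142,5,74,7,[(2,0,136),(1,0,258)],[(1,0,125)]),(85,5,143,0,[],[]),(143,8,80,45,[(2,0,144),(1,0,260)],[(2,0,136)]),(81,5,144,0,[],[]),(79,7,145,0,[],[]),(145,6,133,59,[(1,0,24),(2,0,34),(1,0,134),(1,0,263)],[(2,0,23),(2,0,46),(1,0,177),(2,0,242)]),(143,4,146,0,[],[]),(76,3,142,5,[(2,0,135),(1,0,128)],[(1,0,258)]),(107,4,142,6,[(2,0,184),(2,0,183)],[(1,0,258)]),(144,3,86,31,[(1,0,262)],[(2,0,137),(1,0,145)]),(146,8,108,40,[(2,0,261),(1,0,265)],[(2,0,184)]),(39,5,114,16,[(1,0,131),(2,0,65)],[(2,0,197)]),(144,8,126,59,[(2,0,268)],[(1,0,148),(2,0,72),(1,0,49),(2,0,122),(1,0,103),(2,0,105),(2,0,229)]),(87,2,147,0,[],[]),(147,6,78,25,[(1,0,146),(1,0,272)],[(1,0,132)]),(82,2,148,0,[],[]),(148,8,78,27,[(2,0,140),(1,0,274)],[(1,0,132)]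),(145,10,148,26,[(2,0,139),(1,0,134),(1,0,263)],[(1,0,274)]),(148,10,145,1,[(2,0,276)],[]),(145,8,78,1,[(2,0,277),(1,0,275)],[]),(137,10,147,49,[(2,0,278),(1,0,264),(2,0,246)],[(2,0,273)]),(147,10,137,1,[(2,0,279)],[]),(137,6,78,1,[(2,0,280),(1,0,273)],[]),(137,0,124,59,[(2,0,141),(1,0,34),(2,0,66),(2,0,133),(2,0,281)],[(1,0,147),(1,0,207),(1,0,216)]),(90,5,149,0,[],[]),(149,7,96,44,[(2,0,153),(1,0,283)],[(2,0,162)]),(91,6,150,0,[],[]),(150,8,89,49,[(2,0,155),(1,0,285)],[(2,0,151)]),(91,7,151,0,[],[]),(151,8,90,52,[(2,0,155),(1,0,287)],[(2,0,153)]),(89,5,152,0,[],[]),(90,6,153,0,[],[]),(153,7,154,0,[],[]),(154,6,155,0,[],[]),(155,7,89,48,[(2,0,153),(1,0,290),(1,0,291),(1,0,292)],[(2,0,151)]),(151,0,144,10,[(2,0,288)],[(2,0,225),(2,0,271)]),(153,2,110,25,[(1,0,290)],[(1,0,168),(1,0,188)]),(155,2,112,26,[(2,0,293)],[(1,0,167),(2,0,191)]),(153,4,97,38,[(1,0,290)],[(2,0,152),(1,0,163)]),(155,4,99,39,[(2,0,293)],[(2,0,150),(2,0,166)]),(108,10,135,8,[(1,0,182),(1,0,183)],[(2,0,228),(1,0,238)])]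

def patch0f300 : List Fact := [(135,10,108,1,[(2,0,299)],[]),(108,0,136,1,[(2,0,300),(1,0,239)],[]),(107,10,136,1,[(1,0,183),(1,0,301)],[]),(108,8,128,1,[(2,0,300),(1,0,257)],[]),(146,10,128,1,[(1,0,269),(1,0,303)],[]),(136,10,107,1,[(2,0,302)],[]),(107,4,131,1,[(2,0,305),(1,0,240)],[]),(142,10,131,1,[(2,0,267),(1,0,306)],[]),(146,10,128,1,[(1,0,304)],[]),(128,8,108,1,[(2,0,308),(1,0,269)],[]),(142,10,131,1,[(1,0,307)],[]),(131,3,76,1,[(2,0,310),(2,0,266)],[]),(57,10,76,1,[(1,0,245),(1,0,311)],[]),(131,4,107,1,[(2,0,310),(2,0,267)],[]),(131,5,74,1,[(2,0,310),(1,0,259)],[]),(55,10,74,1,[(2,0,233),(1,0,314)],[]),(76,10,57,1,[(2,0,312)],[]),(57,0,19,1,[(2,0,316),(2,0,128)],[]),(113,10,19,1,[(1,0,195),(1,0,317)],[]),(57,1,113,1,[(2,0,316),(1,0,194)],[]),(13,10,113,1,[(1,0,89),(1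,0,319)],[]),(57,5,35,1,[(2,0,316),(1,0,129)],[]),(37,10,35,1,[(2,0,90),(1,0,321)],[]),(74,10,55,1,[(2,0,315)],[]),(55,0,17,1,[(2,0,323),(2,0,125)],[]),(102,10,17,1,[(1,0,176),(1,0,324)],[]),(55,1,102,1,[(2,0,323),(1,0,175)],[]),(11,10,102,1,[(1,0,86),(1,0,326)],[]),(113,10,19,1,[(1,0,318)],[]),(19,0,57,1,[(2,0,328),(1,0,195)],[]),(19,5,36,1,[(2,0,328),(2,0,253)],[]),(2,10,36,1,[(2,0,28),(1,0,330)],[]),(19,10,13,1,[(2,0,328),(2,0,320)],[]),(13,0,57,1,[(2,0,332),(1,0,329)],[]),(6,10,57,1,[(1,0,15),(1,0,333)],[]),(13,2,77,1,[(2,0,332),(1,0,130)],[]),(58,10,77,1,[(2,0,91),(1,0,335)],[]),(13,3,80,1,[(2,0,332),(1,0,135)],[]),(62,10,80,1,[(2,0,98),(1,0,337)],[]),(13,4,54,1,[(2,0,332),(2,0,84)],[]),(72,10,54,1,[(2,0,115),(1,0,339)],[]),(37,10,35,1,[(1,0,322)],[]),(35,4,56,1,[(2,0,341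),(2,0,88)],[]),(75,10,56,1,[(1,0,127),(1,0,342)],[]),(102,10,17,1,[(1,0,325)],[]),(17,10,11,1,[(2,0,344),(2,0,327)],[]),(11,6,81,1,[(2,0,345),(2,0,138)],[]),(63,10,81,1,[(1,0,101),(1,0,346)],[]),(36,10,2,1,[(2,0,331)],[]),(2,1,35,1,[(2,0,348),(2,0,60)],[]),(0,10,35,1,[(1,0,1),(1,0,349)],[]),(57,10,6,1,[(2,0,334)],[]),(6,3,131,1,[(2,0,351),(1,0,245)],[]),(28,10,131,1,[(2,0,45),(1,0,352)],[]),(77,10,58,1,[(2,0,336)],[]),(58,1,114,1,[(2,0,354),(2,0,197)],[]),(125,10,114,1,[(2,0,217),(1,0,355)],[]),(80,10,62,1,[(2,0,338)],[]),(62,4,108,1,[(2,0,357),(2,0,184)],[]),(133,10,108,1,[(2,0,236),(1,0,358)],[]),(72,10,54,1,[(1,0,340)],[]),(54,4,13,1,[(2,0,360),(2,0,115)],[]),(75,10,56,1,[(1,0,343)],[]),(56,4,35,1,[(2,0,362),(1,0,127)],[]),(56,6,119,1,[(2,0,362),(2,0,204)],[]),(138,10,119,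1,[(1,0,248),(1,0,364)],[]),(81,10,63,1,[(2,0,347)],[]),(63,5,144,1,[(2,0,366),(1,0,262)],[]),(134,10,144,1,[(2,0,237),(1,0,367)],[]),(35,10,0,1,[(2,0,350)],[]),(0,4,56,1,[(2,0,369),(2,0,363)],[]),(5,10,56,1,[(2,0,4),(1,0,370)],[]),(131,10,28,1,[(2,0,353)],[]),(28,4,107,1,[(2,0,372),(1,0,313)],[]),(103,10,107,1,[(2,0,177),(1,0,373)],[]),(125,10,114,1,[(1,0,356)],[]),(114,5,68,1,[(2,0,375),(1,0,218)],[]),(39,10,68,1,[(1,0,270),(1,0,376)],[]),(133,10,108,1,[(1,0,359)],[]),(108,8,137,1,[(2,0,378),(2,0,246)],[]),(128,10,137,1,[(1,0,309),(1,0,379)],[]),(138,10,119,1,[(1,0,365)],[]),(119,6,56,1,[(2,0,381),(1,0,248)],[]),(144,10,134,1,[(2,0,368)],[]),(134,0,151,1,[(2,0,383),(2,0,294)],[]),(104,10,151,1,[(2,0,243),(1,0,384)],[]),(56,10,5,1,[(2,0,371)],[]),(5,6,119,1,[(2,0,386),(2,0,38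2)],[]),(30,10,119,1,[(1,0,50),(1,0,387)],[]),(107,10,103,1,[(2,0,374)],[]),(103,8,97,1,[(2,0,389),(1,0,215)],[]),(109,10,97,1,[(1,0,187),(1,0,390)],[]),(68,10,39,1,[(2,0,377)],[]),(39,1,10,1,[(2,0,392),(2,0,110)],[]),(137,10,128,1,[(2,0,380)],[]),(128,0,124,1,[(2,0,394),(1,0,282)],[]),(97,10,124,1,[(2,0,226),(1,0,395)],[]),(128,4,132,1,[(2,0,394),(2,0,241)],[]),(151,10,104,1,[(2,0,385)],[]),(104,8,90,1,[(2,0,398),(1,0,288)],[]),(119,10,30,1,[(2,0,388)],[]),(30,7,118,1,[(2,0,400),(2,0,203)],[]),(112,10,118,1,[(1,0,191),(1,0,401)],[]),(109,10,97,1,[(1,0,391)],[]),(97,4,101,1,[(2,0,403),(2,0,185)],[]),(153,10,101,1,[(1,0,297),(1,0,404)],[]),(124,10,97,1,[(2,0,396)],[]),(97,4,115,1,[(2,0,406),(2,0,216)],[]),(153,10,115,1,[(1,0,297),(1,0,407)],[]),(118,10,112,1,[(2,0,402)],[]),(11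2,2,101,1,[(2,0,409),(2,0,202)],[]),(155,10,101,1,[(1,0,296),(1,0,410)],[]),(112,8,100,1,[(2,0,409),(1,0,205)],[]),(153,10,101,1,[(1,0,405)],[]),(101,2,110,1,[(2,0,413),(1,0,295)],[]),(101,4,97,1,[(2,0,413),(1,0,297)],[]),(101,6,90,1,[(2,0,413),(2,0,290)],[]),(101,7,154,1,[(2,0,413),(1,0,291)],[]),(115,10,101,1,[(2,0,408),(1,0,413)],[]),(101,0,139,1,[(2,0,418),(2,0,252)],[]),(132,10,139,1,[(1,0,244),(1,0,419)],[]),(101,3,33,1,[(2,0,418),(2,0,198)],[]),(116,10,33,1,[(1,0,200),(1,0,421)],[]),(101,8,116,1,[(2,0,418),(1,0,199)],[]),(28,10,116,1,[(2,0,174),(1,0,423)],[]),(155,10,101,1,[(1,0,411)],[]),(101,2,112,1,[(2,0,425),(1,0,296)],[]),(110,10,112,1,[(2,0,414),(1,0,426)],[]),(101,4,99,1,[(2,0,425),(1,0,298)],[]),(97,10,99,1,[(2,0,415),(1,0,428)],[]),(101,6,154,1,[(2,0,425),(2,0,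292)],[]),(90,10,154,1,[(2,0,416),(1,0,430)],[]),(101,7,89,1,[(2,0,425),(1,0,293)],[]),(154,10,89,1,[(2,0,417),(1,0,432)],[]),(139,10,132,1,[(2,0,420)],[]),(132,3,66,1,[(2,0,434),(2,0,249)],[]),(140,10,66,1,[(1,0,251),(1,0,435)],[]),(132,8,140,1,[(2,0,434),(1,0,250)],[]),(62,10,140,1,[(2,0,235),(1,0,437)],[]),(116,10,33,1,[(1,0,422)],[]),(33,3,101,1,[(2,0,439),(1,0,200)],[]),(33,10,28,1,[(2,0,439),(2,0,424)],[]),(28,2,92,1,[(2,0,441),(2,0,169)],[]),(100,10,92,1,[(2,0,172),(1,0,442)],[]),(28,3,101,1,[(2,0,441),(1,0,440)],[]),(6,10,101,1,[(1,0,45),(1,0,444)],[]),(112,10,110,1,[(2,0,427)],[]),(110,4,50,1,[(2,0,446),(1,0,193)],[]),(48,10,50,1,[(2,0,192),(1,0,447)],[]),(110,8,100,1,[(2,0,446),(1,0,412)],[])]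

def patch0f450 : List Fact := [(99,10,97,1,[(2,0,429)],[]),(97,0,130,1,[(2,0,450),(2,0,227)],[]),(128,10,130,1,[(1,0,226),(1,0,451)],[]),(97,6,98,1,[(2,0,450),(2,0,165)],[]),(26,10,98,1,[(1,0,163),(1,0,453)],[]),(154,10,90,1,[(2,0,431)],[]),(90,7,101,1,[(2,0,455),(2,0,417)],[]),(23,10,101,1,[(2,0,153),(1,0,456)],[]),(90,10,89,1,[(2,0,455),(1,0,433)],[]),(89,5,149,1,[(2,0,458),(1,0,283)],[]),(152,10,149,1,[(2,0,289),(1,0,459)],[]),(89,7,23,1,[(2,0,458),(1,0,153)],[]),(89,8,104,1,[(2,0,458),(2,0,399)],[]),(150,10,104,1,[(1,0,286),(1,0,462)],[]),(140,10,66,1,[(1,0,436)],[]),(66,3,132,1,[(2,0,464),(1,0,251)],[]),(66,10,62,1,[(2,0,464),(2,0,438)],[]),(62,3,132,1,[(2,0,466),(1,0,465)],[]),(13,10,132,1,[(1,0,98),(1,0,467)],[]),(100,10,92,1,[(1,0,443)],[]),(92,8,110,1,[(2,0,469),(2,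0,449)],[]),(24,10,110,1,[(2,0,157),(1,0,470)],[]),(101,10,6,1,[(2,0,445)],[]),(6,4,97,1,[(2,0,472),(1,0,415)],[]),(44,10,97,1,[(2,0,71),(1,0,473)],[]),(6,8,28,1,[(2,0,472),(1,0,174)],[]),(50,10,48,1,[(2,0,448)],[]),(48,5,120,1,[(2,0,476),(1,0,208)],[]),(122,10,120,1,[(2,0,211),(1,0,477)],[]),(48,6,49,1,[(2,0,476),(2,0,78)],[]),(8,10,49,1,[(1,0,76),(1,0,479)],[]),(48,7,7,1,[(2,0,476),(1,0,79)],[]),(49,10,7,1,[(2,0,77),(1,0,481)],[]),(130,10,128,1,[(2,0,452)],[]),(128,6,129,1,[(2,0,483),(2,0,223)],[]),(60,10,129,1,[(1,0,221),(1,0,484)],[]),(98,10,26,1,[(2,0,454)],[]),(26,7,97,1,[(2,0,486),(2,0,164)],[]),(3,10,97,1,[(2,0,42),(1,0,487)],[]),(23,10,6,1,[(1,0,457),(1,0,472)],[]),(6,5,96,1,[(2,0,489),(2,0,162)],[]),(0,10,96,1,[(1,0,5),(1,0,490)],[]),(6,6,89,1,[(2,0,489),(2,0,151)],[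]),(47,10,89,1,[(1,0,75),(1,0,492)],[]),(6,7,89,1,[(2,0,489),(2,0,461)],[]),(32,10,89,1,[(1,0,54),(1,0,494)],[]),(6,8,91,1,[(2,0,489),(2,0,155)],[]),(28,10,91,1,[(2,0,475),(1,0,496)],[]),(152,10,149,1,[(1,0,460)],[]),(149,5,89,1,[(2,0,498),(2,0,289)],[]),(150,10,104,1,[(1,0,463)],[]),(104,6,91,1,[(2,0,500),(2,0,285)],[]),(105,10,91,1,[(2,0,179),(1,0,501)],[]),(132,10,13,1,[(2,0,468)],[]),(13,4,128,1,[(2,0,503),(2,0,397)],[]),(54,10,128,1,[(1,0,361),(1,0,504)],[]),(110,10,24,1,[(2,0,471)],[]),(24,4,48,1,[(2,0,506),(1,0,192)],[]),(94,10,48,1,[(2,0,159),(1,0,507)],[]),(97,10,44,1,[(2,0,474)],[]),(122,10,120,1,[(1,0,478)],[]),(120,5,48,1,[(2,0,510),(2,0,211)],[]),(120,6,123,1,[(2,0,510),(1,0,212)],[]),(49,10,8,1,[(2,0,480)],[]),(8,10,7,1,[(2,0,513),(1,0,482)],[]),(7,7,0,1,[(2,0,51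4),(2,0,7)],[]),(129,10,60,1,[(2,0,485)],[]),(60,7,128,1,[(2,0,516),(2,0,222)],[]),(10,10,128,1,[(2,0,96),(1,0,517)],[]),(44,10,3,1,[(2,0,509),(2,0,488)],[]),(3,1,54,1,[(2,0,519),(1,0,85)],[]),(38,10,54,1,[(2,0,63),(1,0,520)],[]),(3,4,6,1,[(2,0,519),(2,0,71)],[]),(96,10,0,1,[(2,0,491)],[]),(0,4,95,1,[(2,0,523),(2,0,161)],[]),(5,10,95,1,[(2,0,4),(1,0,524)],[]),(0,7,149,1,[(2,0,523),(2,0,284)],[]),(7,10,149,1,[(1,0,515),(1,0,526)],[]),(89,10,47,1,[(2,0,493)],[]),(47,5,149,1,[(2,0,528),(2,0,499)],[]),(46,10,149,1,[(1,0,74),(1,0,529)],[]),(47,10,32,1,[(2,0,528),(2,0,495)],[]),(32,6,6,1,[(2,0,531),(1,0,75)],[]),(117,10,6,1,[(2,0,201),(1,0,532)],[]),(91,10,28,1,[(2,0,497)],[]),(105,10,28,1,[(1,0,502),(1,0,534)],[]),(28,3,46,1,[(2,0,535),(2,0,206)],[]),(6,10,46,1,[(1,0,45),(1,0,536)]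,[]),(128,10,54,1,[(2,0,505)],[]),(94,10,48,1,[(1,0,508)],[]),(48,5,95,1,[(2,0,539),(1,0,160)],[]),(120,10,95,1,[(1,0,511),(1,0,540)],[]),(54,10,10,1,[(2,0,538),(2,0,518)],[]),(38,10,10,1,[(1,0,521),(1,0,542)],[]),(10,1,3,1,[(2,0,543),(2,0,63)],[]),(39,10,3,1,[(1,0,393),(1,0,544)],[]),(10,2,39,1,[(2,0,543),(1,0,64)],[]),(1,10,39,1,[(2,0,10),(1,0,546)],[]),(95,10,5,1,[(2,0,525)],[]),(149,10,7,1,[(2,0,527)],[]),(46,10,7,1,[(1,0,530),(1,0,549)],[]),(117,10,6,1,[(1,0,533)],[]),(6,5,123,1,[(2,0,551),(2,0,213)],[]),(0,10,123,1,[(1,0,5),(1,0,552)],[]),(7,10,6,1,[(2,0,550),(2,0,537)],[]),(6,4,30,1,[(2,0,554),(1,0,49)],[]),(3,10,30,1,[(1,0,522),(1,0,555)],[]),(120,10,5,1,[(1,0,541),(1,0,548)],[]),(5,6,123,1,[(2,0,557),(1,0,512)],[]),(30,10,123,1,[(1,0,50),(1,0,558)],[]),(39,10,3,1,[(1,0,545)],[]),(3,10,1,1,[(2,0,560),(2,0,547)],[]),(123,10,0,1,[(2,0,553)],[]),(30,10,1,1,[(2,0,556),(1,0,561)],[]),(1,10,0,1,[(2,0,563),(1,0,559),(1,0,562)],[]),(0,0,0,1,[(2,0,564),(2,0,0)],[]),(0,0,0,1,[(2,0,565)],[])]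

def patch0 : Patch := (patch0d0, patch0f0 ++ patch0f150 ++ patch0f300 ++ patch0f450)

def patch1d0 : List (ℕ × ℕ) := [(0,1),(0,2),(0,3),(0,4),(0,5),(0,6),(0,7),(0,8),(3,1),(4,1),(5,1),(6,1),(7,1),(8,1),(4,2),(6,2),(7,2),(8,2),(5,3),(6,3),(6,4),(7,4),(8,4),(1,0),(4,3),(25,4),(26,3),(8,3),(28,8),(29,3),(5,4),(31,5),(32,4),(6,5),(34,6),(35,5),(7,6),(37,7),(38,6),(30,2),(40,7),(41,6),(42,0),(9,0),(14,2),(11,3),(12,3),(12,4),(13,4),(14,4),(14,5),(10,3),(14,3),(53,8),(54,3),(43,5),(56,4),(12,5),(58,6),(59,5),(13,6),(61,7),(62,6),(55,2),(64,7),(16,4),(17,4),(18,4),(18,7),(17,6),(70,7),(71,6),(20,4),(30,6),(19,4),(75,5),(76,4),(20,5),(78,6),(79,5),(69,6),(81,0),(33,3),(22,5),(23,3),(85,8),(86,3),(21,5),(88,6),(89,5),(22,6),(91,7),(92,6),(31,3),(94,4),(39,5),(34,4),(97,5),(74,2),(99,7),(100,6),(101,0),(46,0),(55,5),(55,6),(55,7),(82,5),(47,5),(108,6),(109,5),(45,7),(104,4),(57,3),(49,5),(50,3),(115,8),(116,3),(48,5),(117,2),(119,7),(51,2),(60,4),(43,3),(123,4),(63,5),(102,5),(105,2),(127,7),(67,5),(66,5),(67,6),(131,7),(132,6)]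

def patch1f0 : List Fact := [(0,1,1,0,[],[]),(0,2,2,0,[],[]),(0,3,3,0,[],[]),(0,4,4,0,[],[]),(0,5,5,0,[],[]),(0,6,6,0,[],[]),(0,7,7,0,[],[]),(0,8,8,0,[],[]),(3,0,3,5,[(1,0,2)],[(0,0,0),(1,0,2)]),(4,0,4,6,[(1,0,3)],[(0,0,0),(1,0,3)]),(5,0,5,7,[(1,0,4)],[(0,0,0),(1,0,4)]),(6,0,6,8,[(1,0,5)],[(0,0,0),(1,0,5)]),(8,0,8,10,[(1,0,7)],[(0,0,0),(1,0,7)]),(3,1,9,0,[],[]),(9,3,1,14,[(1,0,2),(1,0,13)],[(1,0,0)]),(4,1,10,0,[],[]),(10,4,1,15,[(1,0,3),(1,0,15)],[(1,0,0)]),(5,1,11,0,[],[]),(11,5,1,16,[(1,0,4),(1,0,17)],[(1,0,0)]),(6,1,12,0,[],[]),(12,6,1,17,[(1,0,5),(1,0,19)],[(1,0,0)]),(7,1,13,0,[],[]),(13,7,1,18,[(1,0,6),(1,0,21)],[(1,0,0)]),(8,1,14,0,[],[]),(14,8,1,19,[(1,0,7),(1,0,23)],[(1,0,0)]),(4,2,15,0,[],[]),(15,4,2,23,[(1,0,3),(1,0,25)],[(1,0,1)]),(6,2,16,0,[],[]),(16,6,2,25,[(1,0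,5),(1,0,27)],[(1,0,1)]),(7,2,17,0,[],[]),(17,7,2,26,[(1,0,6),(1,0,29)],[(1,0,1)]),(8,2,18,0,[],[]),(18,8,2,27,[(1,0,7),(1,0,31)],[(1,0,1)]),(5,3,19,0,[],[]),(19,5,3,31,[(1,0,4),(1,0,33)],[(1,0,2)]),(6,3,20,0,[],[]),(20,6,3,32,[(1,0,5),(1,0,35)],[(1,0,2)]),(6,4,21,0,[],[]),(21,6,4,38,[(1,0,5),(1,0,37)],[(1,0,3)]),(7,4,22,0,[],[]),(22,7,4,39,[(1,0,6),(1,0,39)],[(1,0,3)]),(8,4,23,0,[],[]),(23,8,4,40,[(1,0,7),(1,0,41)],[(1,0,3)]),(1,0,24,0,[],[]),(24,1,24,3,[(1,0,0),(1,0,43)],[(0,0,0),(1,0,0),(1,0,43)]),(4,3,25,0,[],[]),(25,4,26,0,[],[]),(26,3,27,0,[],[]),(27,4,3,30,[(1,0,3),(1,0,45),(1,0,46),(1,0,47)],[(1,0,2)]),(8,3,28,0,[],[]),(28,8,29,0,[],[]),(29,3,30,0,[],[]),(30,8,3,34,[(1,0,7),(1,0,49),(1,0,50),(1,0,51)],[(1,0,2)]),(5,4,31,0,[],[]),(31,5,32,0,[],[]),(32,4,33,0,[],[]),(33,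5,4,37,[(1,0,4),(1,0,53),(1,0,54),(1,0,55)],[(1,0,3)]),(6,5,34,0,[],[]),(34,6,35,0,[],[]),(35,5,36,0,[],[]),(36,6,5,43,[(1,0,5),(1,0,57),(1,0,58),(1,0,59)],[(1,0,4)]),(7,6,37,0,[],[]),(37,7,38,0,[],[]),(38,6,39,0,[],[]),(39,7,6,48,[(1,0,6),(1,0,61),(1,0,62),(1,0,63)],[(1,0,5)]),(30,2,40,0,[],[]),(40,7,41,0,[],[]),(41,6,42,0,[],[]),(42,0,43,0,[],[]),(43,4,11,59,[(1,0,2),(2,0,52),(1,0,65),(1,0,66),(1,0,67),(1,0,68)],[(1,0,0),(2,0,18)]),(18,0,18,4,[(1,0,31)],[(2,0,12),(1,0,31)]),(19,0,19,5,[(1,0,33)],[(2,0,10),(1,0,33)]),(27,0,27,6,[(2,0,48)],[(2,0,8),(2,0,48)]),(31,0,31,6,[(1,0,53)],[(2,0,10),(1,0,53)]),(21,0,21,6,[(1,0,37)],[(2,0,11),(1,0,37)]),(33,0,33,7,[(2,0,56)],[(2,0,9),(2,0,56)]),(34,0,34,7,[(1,0,57)],[(2,0,11),(1,0,57)]),(9,0,44,0,[],[]),(44,3,24,5,[(2,0,14),(1,0,77)],[(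1,0,43)]),(14,2,45,0,[],[]),(11,3,46,0,[],[]),(46,5,9,31,[(2,0,18),(1,0,80)],[(2,0,14)]),(12,3,47,0,[],[]),(47,6,9,32,[(2,0,20),(1,0,82)],[(2,0,14)]),(12,4,48,0,[],[]),(13,4,49,0,[],[]),(49,7,10,39,[(2,0,22),(1,0,85)],[(2,0,16)]),(14,4,50,0,[],[]),(50,8,10,40,[(2,0,24),(1,0,87)],[(2,0,16)]),(14,5,51,0,[],[]),(51,8,11,45,[(2,0,24),(1,0,89)],[(2,0,18)]),(10,3,52,0,[],[]),(14,3,53,0,[],[]),(53,8,54,0,[],[]),(54,3,55,0,[],[]),(55,8,9,34,[(2,0,24),(1,0,92),(1,0,93),(1,0,94)],[(2,0,14)]),(43,5,56,0,[],[]),(56,4,57,0,[],[]),(57,5,10,37,[(2,0,18),(2,0,69),(1,0,96),(1,0,97)],[(2,0,16)]),(12,5,58,0,[],[]),(58,6,59,0,[],[]),(59,5,60,0,[],[]),(60,6,11,43,[(2,0,20),(1,0,99),(1,0,100),(1,0,101)],[(2,0,18)]),(13,6,61,0,[],[]),(61,7,62,0,[],[]),(62,6,63,0,[],[]),(63,7,12,48,[(2,0,22),(1,0,103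),(1,0,104),(1,0,105)],[(2,0,20)]),(55,2,64,0,[],[]),(64,7,65,0,[],[]),(65,6,31,59,[(2,0,14),(2,0,95),(1,0,107),(1,0,108)],[(2,0,0),(1,0,4),(1,0,53),(2,0,73)]),(44,1,44,14,[(2,0,78)],[(2,0,44),(2,0,78)]),(52,1,25,14,[(1,0,91)],[(2,0,15),(1,0,45)]),(46,1,19,14,[(1,0,80)],[(2,0,17),(1,0,33)]),(48,1,21,15,[(1,0,84)],[(2,0,19),(1,0,37)]),(49,1,22,15,[(1,0,85)],[(2,0,21),(1,0,39)]),(57,1,33,16,[(2,0,98)],[(2,0,15),(2,0,56)]),(58,1,34,16,[(1,0,99)],[(2,0,19),(1,0,57)]),(60,1,36,17,[(2,0,102)],[(2,0,17),(2,0,60)]),(63,1,39,18,[(2,0,106)],[(2,0,19),(2,0,64)]),(55,1,30,19,[(2,0,95)],[(2,0,13),(2,0,52)]),(16,4,66,0,[],[]),(66,6,15,38,[(2,0,28),(1,0,120)],[(2,0,26)]),(17,4,67,0,[],[]),(67,7,15,39,[(2,0,30),(1,0,122)],[(2,0,26)]),(18,4,68,0,[],[]),(68,8,15,40,[(2,0,32),(1,0,124)],[(2,0,26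)]),(18,7,69,0,[],[]),(17,6,70,0,[],[]),(70,7,71,0,[],[]),(71,6,72,0,[],[]),(72,7,16,48,[(2,0,30),(1,0,127),(1,0,128),(1,0,129)],[(2,0,28)]),(68,0,68,6,[(1,0,124)],[(2,0,70),(1,0,124)]),(66,2,21,23,[(1,0,120)],[(2,0,27),(1,0,37)]),(67,2,22,23,[(1,0,122)],[(2,0,29),(1,0,39)]),(72,2,39,26,[(2,0,130)],[(2,0,27),(2,0,64)]),(20,4,73,0,[],[]),(73,6,27,38,[(2,0,36),(1,0,135)],[(2,0,48)]),(30,6,74,0,[],[]),(74,8,20,49,[(2,0,52),(1,0,137)],[(2,0,36)]),(19,4,75,0,[],[]),(75,5,76,0,[],[]),(76,4,77,0,[],[]),(77,5,27,37,[(2,0,34),(1,0,139),(1,0,140),(1,0,141)],[(2,0,48)]),(20,5,78,0,[],[]),(78,6,79,0,[],[]),(79,5,80,0,[],[]),(80,6,19,43,[(2,0,36),(1,0,143),(1,0,144),(1,0,145)],[(2,0,34)]),(69,6,81,0,[],[]),(81,0,82,0,[],[]),(82,4,46,59,[(2,0,2),(1,0,7),(1,0,31),(1,0,126),(1,0,147),(1,0,148)],[(1,0,13),(2,0,81)])]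

def patch1f150 : List Fact := [(75,0,75,6,[(1,0,139)],[(2,0,71),(1,0,139)]),(75,1,82,15,[(1,0,139)],[(2,0,112),(2,0,149)]),(80,3,36,32,[(2,0,146)],[(2,0,33),(2,0,60)]),(33,3,83,0,[],[]),(83,5,25,31,[(2,0,56),(1,0,153)],[(1,0,45)]),(22,5,84,0,[],[]),(84,7,33,44,[(2,0,40),(1,0,155)],[(2,0,56)]),(23,3,85,0,[],[]),(85,8,86,0,[],[]),(86,3,87,0,[],[]),(87,8,25,34,[(2,0,42),(1,0,157),(1,0,158),(1,0,159)],[(1,0,45)]),(21,5,88,0,[],[]),(88,6,89,0,[],[]),(89,5,90,0,[],[]),(90,6,33,43,[(2,0,38),(1,0,161),(1,0,162),(1,0,163)],[(2,0,56)]),(22,6,91,0,[],[]),(91,7,92,0,[],[]),(92,6,93,0,[],[]),(93,7,21,48,[(2,0,40),(1,0,165),(1,0,166),(1,0,167)],[(2,0,38)]),(32,0,32,6,[(2,0,55)],[(2,0,75),(2,0,55)]),(36,4,65,38,[(2,0,60)],[(1,0,53),(2,0,109)]),(31,3,94,0,[],[]),(94,4,95,0,[],[]),(95,3,75,3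0,[(1,0,53),(1,0,171),(1,0,172)],[(1,0,33),(1,0,139)]),(35,3,79,31,[(2,0,59)],[(2,0,152),(2,0,145)]),(39,5,96,0,[],[]),(96,7,34,44,[(2,0,64),(1,0,175)],[(1,0,57)]),(34,4,97,0,[],[]),(97,5,98,0,[],[]),(98,4,88,37,[(1,0,57),(1,0,177),(1,0,178)],[(1,0,37),(1,0,161)]),(74,2,99,0,[],[]),(99,7,100,0,[],[]),(100,6,101,0,[],[]),(101,0,102,0,[],[]),(102,4,58,59,[(1,0,35),(2,0,138),(1,0,180),(1,0,181),(1,0,182),(1,0,183)],[(1,0,19),(1,0,99)]),(97,0,97,6,[(1,0,177)],[(2,0,76),(1,0,177)]),(46,0,103,0,[],[]),(103,5,44,7,[(2,0,81),(1,0,186)],[(1,0,77)]),(55,5,104,0,[],[]),(104,8,46,45,[(2,0,95),(1,0,188)],[(2,0,81)]),(55,6,105,0,[],[]),(105,8,47,49,[(2,0,95),(1,0,190)],[(2,0,83)]),(55,7,106,0,[],[]),(82,5,107,0,[],[]),(47,5,108,0,[],[]),(108,6,109,0,[],[]),(109,5,110,0,[],[]),(110,6,46,43,[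(2,0,83),(1,0,194),(1,0,195),(1,0,196)],[(2,0,81)]),(45,7,111,0,[],[]),(111,6,75,59,[(1,0,14),(2,0,24),(1,0,79),(1,0,198)],[(2,0,13),(2,0,34),(1,0,139),(2,0,150)]),(104,4,112,0,[],[]),(81,4,103,6,[(2,0,149),(2,0,148)],[(1,0,186)]),(103,1,103,16,[(2,0,187)],[(2,0,110),(2,0,187)]),(105,1,74,17,[(1,0,190)],[(1,0,119),(1,0,137)]),(106,2,65,26,[(1,0,192)],[(1,0,107),(1,0,108)]),(108,3,58,31,[(1,0,194)],[(2,0,82),(1,0,99)]),(110,3,60,32,[(2,0,197)],[(2,0,80),(2,0,102)]),(112,8,82,40,[(2,0,189),(1,0,200)],[(2,0,149)]),(57,3,113,0,[],[]),(113,5,52,31,[(2,0,98),(1,0,208)],[(1,0,91)]),(49,5,114,0,[],[]),(114,7,57,44,[(2,0,86),(1,0,210)],[(2,0,98)]),(50,3,115,0,[],[]),(115,8,116,0,[],[]),(116,3,117,0,[],[]),(117,8,52,34,[(2,0,88),(1,0,212),(1,0,213),(1,0,214)],[(1,0,91)]),(48,5,118,0,[],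[]),(117,2,119,0,[],[]),(119,7,120,0,[],[]),(120,6,32,59,[(1,0,91),(2,0,215),(1,0,217),(1,0,218)],[(2,0,15),(2,0,56),(2,0,55),(2,0,169)]),(113,1,83,14,[(1,0,208)],[(1,0,115),(1,0,153)]),(118,1,88,16,[(1,0,216)],[(1,0,113),(1,0,161)]),(114,1,84,16,[(1,0,210)],[(1,0,114),(1,0,155)]),(117,1,87,19,[(2,0,215)],[(1,0,111),(2,0,160)]),(113,8,72,59,[(1,0,208)],[(1,0,115),(1,0,56),(2,0,3),(0,0,0),(1,0,5),(2,0,64),(2,0,134)]),(51,2,121,0,[],[]),(60,4,122,0,[],[]),(43,3,123,0,[],[]),(123,4,124,0,[],[]),(124,3,82,30,[(2,0,69),(1,0,227),(1,0,228)],[(1,0,80),(2,0,149)]),(104,2,93,59,[(1,0,80),(2,0,189)],[(2,0,17),(2,0,4),(1,0,3),(2,0,9),(2,0,38),(2,0,168)]),(122,1,65,15,[(1,0,226)],[(1,0,117),(1,0,170)]),(45,5,121,24,[(2,0,89),(1,0,79)],[(1,0,225)]),(59,3,109,31,[(2,0,101)],[(2,0,206),(2,0,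196)]),(121,7,73,59,[(2,0,80),(2,0,90),(1,0,225)],[(1,0,112),(1,0,34),(2,0,48),(2,0,72),(2,0,136)]),(63,5,125,0,[],[]),(125,7,58,44,[(2,0,106),(1,0,235)],[(1,0,99)]),(102,5,126,0,[],[]),(126,4,118,37,[(1,0,99),(2,0,184),(1,0,237)],[(1,0,84),(1,0,216)]),(105,2,127,0,[],[]),(127,7,128,0,[],[]),(128,6,97,59,[(1,0,82),(2,0,191),(1,0,239),(1,0,240)],[(2,0,19),(1,0,57),(1,0,177),(2,0,185)]),(125,1,96,16,[(1,0,235)],[(1,0,118),(1,0,175)]),(108,8,67,59,[(2,0,205)],[(1,0,116),(2,0,57),(1,0,37),(2,0,74),(1,0,38),(2,0,40),(2,0,133)]),(111,5,73,44,[(1,0,198)],[(1,0,232),(1,0,234)]),(67,5,129,0,[],[]),(68,7,108,52,[(2,0,125)],[(2,0,123),(2,0,243)]),(66,5,130,0,[],[]),(67,6,131,0,[],[]),(131,7,132,0,[],[]),(132,6,133,0,[],[]),(133,7,66,48,[(2,0,123),(1,0,248),(1,0,249),(1,0,250)],[(2,0,121)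]),(108,0,108,9,[(1,0,246)],[(2,0,131),(1,0,246)]),(130,2,88,24,[(1,0,247)],[(1,0,132),(1,0,161)]),(129,2,84,24,[(1,0,245)],[(1,0,133),(1,0,155)]),(133,10,104,26,[(2,0,251)],[(1,0,132),(2,0,168),(2,0,230)]),(133,10,104,1,[(1,0,255)],[]),(104,7,66,1,[(2,0,256),(1,0,251)],[]),(112,10,72,39,[(2,0,257),(1,0,200)],[(2,0,120),(2,0,130)]),(112,10,72,1,[(1,0,258)],[]),(72,8,82,1,[(2,0,259),(1,0,207)],[]),(113,10,82,1,[(1,0,224),(1,0,260)],[]),(113,10,82,1,[(1,0,261)],[]),(82,1,83,1,[(2,0,262),(1,0,220)],[]),(75,10,83,1,[(1,0,151),(1,0,263)],[]),(82,3,57,1,[(2,0,262),(2,0,208)],[]),(124,10,57,1,[(1,0,229),(1,0,265)],[]),(82,5,52,1,[(2,0,262),(1,0,209)],[]),(107,10,52,1,[(2,0,193),(1,0,267)],[]),(83,10,75,1,[(2,0,264)],[]),(75,3,33,1,[(2,0,269),(2,0,153)],[]),(95,10,33,1,[(1,0,173),(1,0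,270)],[]),(75,5,25,1,[(2,0,269),(1,0,154)],[]),(76,10,25,1,[(2,0,140),(1,0,272)],[]),(124,10,57,1,[(1,0,266)],[]),(57,3,82,1,[(2,0,274),(1,0,229)],[]),(57,4,123,1,[(2,0,274),(2,0,228)],[]),(56,10,123,1,[(1,0,97),(1,0,276)],[]),(107,10,52,1,[(1,0,268)],[]),(52,5,82,1,[(2,0,278),(2,0,193)],[]),(95,10,33,1,[(1,0,271)],[]),(33,4,94,1,[(2,0,280),(2,0,172)],[]),(32,10,94,1,[(1,0,55),(1,0,281)],[]),(76,10,25,1,[(1,0,273)],[]),(25,4,77,1,[(2,0,283),(1,0,141)],[]),(26,10,77,1,[(2,0,46),(1,0,284)],[]),(25,5,75,1,[(2,0,283),(2,0,140)],[]),(123,10,56,1,[(2,0,277)],[]),(56,3,43,1,[(2,0,287),(2,0,227)],[]),(94,10,32,1,[(2,0,282)],[]),(32,3,31,1,[(2,0,289),(2,0,171)],[]),(77,10,26,1,[(2,0,285)],[]),(26,5,27,1,[(2,0,291),(1,0,142)],[]),(108,4,69,39,[(1,0,246)],[(2,0,124),(1,0,126)]),(106,10,130,44,[(2,0,257),(2,0,188),(1,0,192)],[(1,0,247)]),(130,10,106,1,[(2,0,294)],[]),(106,2,88,1,[(2,0,295),(1,0,253)],[]),(65,10,88,1,[(2,0,204),(1,0,296)],[]),(88,10,65,1,[(2,0,297)],[]),(65,1,118,1,[(2,0,298),(2,0,221)],[])]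

def patch1f300 : List Fact := [(122,10,118,1,[(1,0,231),(1,0,299)],[]),(65,4,98,1,[(2,0,298),(2,0,179)],[]),(36,10,98,1,[(1,0,170),(1,0,301)],[]),(65,6,89,1,[(2,0,298),(1,0,162)],[]),(31,10,89,1,[(2,0,109),(1,0,303)],[]),(122,10,118,1,[(1,0,300)],[]),(118,4,60,1,[(2,0,305),(2,0,226)],[]),(126,10,60,1,[(1,0,238),(1,0,306)],[]),(98,10,36,1,[(2,0,302)],[]),(36,5,97,1,[(2,0,308),(2,0,178)],[]),(35,10,97,1,[(1,0,59),(1,0,309)],[]),(89,10,31,1,[(2,0,304)],[]),(31,5,90,1,[(2,0,311),(1,0,163)],[]),(32,10,90,1,[(2,0,54),(1,0,312)],[]),(126,10,60,1,[(1,0,307)],[]),(60,5,102,1,[(2,0,314),(2,0,237)],[]),(59,10,102,1,[(1,0,101),(1,0,315)],[]),(97,10,35,1,[(2,0,310)],[]),(35,4,34,1,[(2,0,317),(2,0,177)],[]),(35,6,128,1,[(2,0,317),(2,0,241)],[]),(34,10,128,1,[(1,0,58),(1,0,319)],[]),(90,10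,32,1,[(2,0,313)],[]),(32,6,33,1,[(2,0,321),(1,0,164)],[]),(120,10,33,1,[(1,0,219),(1,0,322)],[]),(102,10,59,1,[(2,0,316)],[]),(59,4,58,1,[(2,0,324),(1,0,184)],[]),(128,10,34,1,[(2,0,320)],[]),(34,7,127,1,[(2,0,326),(2,0,240)],[]),(96,10,127,1,[(1,0,176),(1,0,327)],[]),(120,10,33,1,[(1,0,323)],[]),(33,7,119,1,[(2,0,329),(2,0,218)],[]),(84,10,119,1,[(1,0,156),(1,0,330)],[]),(127,10,96,1,[(2,0,328)],[]),(96,2,105,1,[(2,0,332),(2,0,239)],[]),(119,10,84,1,[(2,0,331)],[]),(84,2,117,1,[(2,0,334),(2,0,217)],[]),(129,10,117,1,[(1,0,254),(1,0,335)],[]),(129,10,117,1,[(1,0,336)],[]),(117,2,84,1,[(2,0,337),(1,0,254)],[]),(117,5,67,1,[(2,0,337),(2,0,245)],[]),(105,10,117,45,[(2,0,243),(2,0,194),(2,0,191)],[(2,0,339)]),(117,10,105,1,[(2,0,340)],[]),(105,1,87,1,[(2,0,341),(1,0,223)],[]),(74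,10,87,1,[(2,0,203),(1,0,342)],[]),(105,2,84,1,[(2,0,341),(1,0,338)],[]),(96,10,84,1,[(1,0,333),(1,0,344)],[]),(105,8,52,1,[(2,0,341),(1,0,215)],[]),(47,10,52,1,[(2,0,191),(1,0,346)],[]),(87,10,74,1,[(2,0,343)],[]),(74,8,25,1,[(2,0,348),(1,0,160)],[]),(20,10,25,1,[(2,0,138),(1,0,349)],[]),(96,10,84,1,[(1,0,345)],[]),(84,1,125,1,[(2,0,351),(2,0,242)],[]),(114,10,125,1,[(1,0,222),(1,0,352)],[]),(84,7,34,1,[(2,0,351),(1,0,176)],[]),(33,10,34,1,[(2,0,156),(1,0,354)],[]),(52,10,47,1,[(2,0,347)],[]),(47,5,82,1,[(2,0,356),(1,0,279)],[]),(108,10,82,1,[(2,0,194),(1,0,357)],[]),(25,10,20,1,[(2,0,350)],[]),(20,4,26,1,[(2,0,359),(1,0,46)],[]),(73,10,26,1,[(2,0,135),(1,0,360)],[]),(20,5,75,1,[(2,0,359),(1,0,286)],[]),(78,10,75,1,[(2,0,143),(1,0,362)],[]),(125,10,114,1,[(2,0,353)],[]),(114,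7,58,1,[(2,0,364),(1,0,236)],[]),(57,10,58,1,[(2,0,211),(1,0,365)],[]),(34,10,33,1,[(2,0,355)],[]),(33,4,35,1,[(2,0,367),(2,0,318)],[]),(32,10,35,1,[(1,0,55),(1,0,368)],[]),(108,10,82,1,[(1,0,358)],[]),(82,0,82,1,[(2,0,370),(2,0,252),(1,0,370)],[]),(81,10,82,1,[(1,0,148),(1,0,371)],[]),(82,4,69,1,[(2,0,370),(1,0,293)],[]),(46,10,69,1,[(2,0,149),(1,0,373)],[]),(82,6,109,1,[(2,0,370),(1,0,195)],[]),(73,10,26,1,[(1,0,361)],[]),(26,5,111,1,[(2,0,376),(2,0,244)],[]),(27,10,111,1,[(2,0,292),(1,0,377)],[]),(78,10,75,1,[(1,0,363)],[]),(75,6,79,1,[(2,0,379),(1,0,144)],[]),(111,10,79,1,[(1,0,199),(1,0,380)],[]),(58,10,57,1,[(2,0,366)],[]),(57,4,59,1,[(2,0,382),(2,0,325)],[]),(56,10,59,1,[(1,0,97),(1,0,383)],[]),(35,10,32,1,[(2,0,369)],[]),(32,3,79,1,[(2,0,385),(1,0,174)],[]),(31,10,79,1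,[(2,0,290),(1,0,386)],[]),(82,10,81,1,[(2,0,372)],[]),(81,3,57,1,[(2,0,388),(2,0,275)],[]),(81,4,46,1,[(2,0,388),(1,0,149)],[]),(103,10,46,1,[(2,0,201),(1,0,390)],[]),(81,6,109,1,[(2,0,388),(1,0,375)],[]),(69,10,109,1,[(1,0,147),(1,0,392)],[]),(69,10,46,1,[(2,0,374)],[]),(46,6,81,1,[(2,0,394),(1,0,147)],[]),(110,10,81,1,[(1,0,197),(1,0,395)],[]),(111,10,27,1,[(2,0,378)],[]),(79,10,27,1,[(2,0,381),(1,0,397)],[]),(59,10,56,1,[(2,0,384)],[]),(56,3,109,1,[(2,0,399),(1,0,233)],[]),(43,10,109,1,[(2,0,288),(1,0,400)],[]),(56,5,60,1,[(2,0,399),(1,0,101)],[]),(43,10,60,1,[(1,0,96),(1,0,402)],[]),(31,10,27,1,[(1,0,387),(1,0,398)],[]),(27,4,5,1,[(2,0,404),(2,0,53)],[]),(3,10,5,1,[(2,0,48),(1,0,405)],[]),(103,10,46,1,[(1,0,391)],[]),(46,1,46,1,[(2,0,407),(2,0,202),(1,0,407)],[]),(19,10,4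6,1,[(2,0,112),(1,0,408)],[]),(109,10,46,1,[(2,0,393),(1,0,394)],[]),(46,5,110,1,[(2,0,410),(1,0,196)],[]),(9,10,110,1,[(2,0,81),(1,0,411)],[]),(110,10,81,1,[(1,0,396)],[]),(81,3,60,1,[(2,0,413),(1,0,206)],[]),(57,10,60,1,[(2,0,389),(1,0,414)],[]),(46,10,43,1,[(2,0,410),(2,0,401)],[]),(60,10,43,1,[(2,0,403)],[]),(5,10,3,1,[(2,0,406)],[]),(3,3,19,1,[(2,0,418),(1,0,33)],[]),(0,10,19,1,[(1,0,2),(1,0,419)],[]),(43,10,19,1,[(2,0,416),(2,0,409)],[]),(81,10,9,1,[(2,0,413),(2,0,412)],[]),(9,3,57,1,[(2,0,422),(1,0,389)],[]),(1,10,57,1,[(2,0,14),(1,0,423)],[]),(60,10,19,1,[(1,0,417),(1,0,421)],[]),(57,10,19,1,[(1,0,415),(1,0,425)],[]),(19,10,0,1,[(2,0,420)],[]),(57,10,0,1,[(1,0,426),(1,0,427)],[]),(1,10,0,1,[(1,0,424),(1,0,428)],[]),(0,1,0,1,[(2,0,429),(2,0,0)],[]),(0,1,0,1,[(2,0,430)],[])]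

def patch1 : Patch := (patch1d0, patch1f0 ++ patch1f150 ++ patch1f300)

def patch2d0 : List (ℕ × ℕ) := [(0,2),(0,3),(0,4),(0,5),(0,6),(0,7),(0,8),(7,2),(4,3),(5,3),(6,3),(7,6),(7,7),(1,1),(3,3),(15,4),(16,3),(8,1),(8,6),(8,7),(11,4),(11,5),(9,4),(10,5),(24,6),(25,5),(20,6)]

def patch2f0 : List Fact := [(0,2,1,0,[],[]),(0,3,2,0,[],[]),(0,4,3,0,[],[]),(0,5,4,0,[],[]),(0,6,5,0,[],[]),(0,7,6,0,[],[]),(0,8,7,0,[],[]),(4,0,4,7,[(1,0,3)],[(0,0,0),(1,0,3)]),(7,0,7,10,[(1,0,6)],[(0,0,0),(1,0,6)]),(2,1,2,14,[(1,0,1)],[(0,1,0),(1,0,1)]),(5,1,5,17,[(1,0,4)],[(0,1,0),(1,0,4)]),(6,1,6,18,[(1,0,5)],[(0,1,0),(1,0,5)]),(7,2,8,0,[],[]),(8,8,1,27,[(1,0,6),(1,0,12)],[(1,0,0)]),(4,3,9,0,[],[]),(9,5,2,31,[(1,0,3),(1,0,14)],[(1,0,1)]),(5,3,10,0,[],[]),(10,6,2,32,[(1,0,4),(1,0,16)],[(1,0,1)]),(6,3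,11,0,[],[]),(11,7,2,33,[(1,0,5),(1,0,18)],[(1,0,1)]),(7,6,12,0,[],[]),(12,8,5,49,[(1,0,6),(1,0,20)],[(1,0,4)]),(7,7,13,0,[],[]),(13,8,6,52,[(1,0,6),(1,0,22)],[(1,0,5)]),(1,1,14,0,[],[]),(14,2,14,13,[(1,0,0),(1,0,24)],[(0,1,0),(1,0,0),(1,0,24)]),(3,3,15,0,[],[]),(15,4,16,0,[],[]),(16,3,17,0,[],[]),(17,4,2,30,[(1,0,2),(1,0,26),(1,0,27),(1,0,28)],[(1,0,1)]),(8,0,8,4,[(1,0,12)],[(2,0,8),(1,0,12)]),(9,0,9,5,[(1,0,14)],[(2,0,7),(1,0,14)]),(10,1,10,14,[(1,0,16)],[(2,0,10),(1,0,16)]),(11,1,11,14,[(1,0,18)],[(2,0,11),(1,0,18)]),(8,1,18,0,[],[]),(18,8,14,19,[(2,0,13),(1,0,34)],[(1,0,24)]),(8,6,19,0,[],[]),(8,7,20,0,[],[]),(19,0,19,8,[(1,0,36)],[(2,0,30),(1,0,36)]),(20,0,20,9,[(1,0,37)],[(2,0,30),(1,0,37)]),(19,2,12,25,[(1,0,36)],[(2,0,12),(1,0,20)]),(20,2,13,26,[(1,0,37)],[(2,0,12),(1,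0,22)]),(18,2,18,27,[(2,0,35)],[(2,0,25),(2,0,35)]),(11,4,21,0,[],[]),(21,7,17,39,[(2,0,19),(1,0,43)],[(2,0,29)]),(11,5,22,0,[],[]),(22,7,9,44,[(2,0,19),(1,0,45)],[(2,0,15)]),(9,4,23,0,[],[]),(10,5,24,0,[],[]),(24,6,25,0,[],[]),(25,5,26,0,[],[]),(26,6,9,43,[(2,0,17),(1,0,48),(1,0,49),(1,0,50)],[(2,0,15)]),(20,6,27,0,[],[]),(27,0,23,59,[(2,0,1),(1,0,6),(1,0,12),(1,0,37),(1,0,52)],[(2,0,9),(2,0,15),(1,0,47)]),(27,10,23,6,[(1,0,47),(2,0,53)],[(2,0,31),(1,0,47)]),(27,10,23,1,[(1,0,54)],[]),(23,6,20,1,[(2,0,55),(2,0,52)],[]),(21,1,21,15,[(1,0,43)],[(2,0,33),(1,0,43)]),(26,4,20,38,[(2,0,51)],[(1,0,47),(1,0,56)]),(19,4,22,59,[(2,0,18),(2,0,23),(2,0,41),(2,0,37),(1,0,36),(2,0,38)],[(2,0,33),(1,0,45)]),(19,7,23,39,[(2,0,46),(2,0,59)],[(1,0,47)]),(25,10,10,59,[(2,0,16),(2,0,21),(2,0,40)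,(1,0,60),(1,0,56),(2,0,39),(2,0,58),(2,0,50)],[(2,0,32)]),(25,10,10,1,[(1,0,61)],[]),(10,5,26,1,[(2,0,62),(1,0,50)],[]),(24,10,26,1,[(2,0,48),(1,0,63)],[]),(10,6,24,1,[(2,0,62),(2,0,49)],[]),(2,10,24,1,[(2,0,17),(1,0,65)],[]),(26,10,24,1,[(2,0,64)],[]),(24,4,20,1,[(2,0,67),(1,0,58)],[]),(24,10,2,1,[(2,0,66)],[]),(2,4,20,1,[(2,0,69),(1,0,68)],[]),(17,10,20,1,[(1,0,29),(1,0,70)],[]),(20,10,17,1,[(2,0,71)],[]),(17,7,8,1,[(2,0,72),(2,0,37)],[]),(21,10,8,1,[(1,0,44),(1,0,73)],[]),(21,10,8,1,[(1,0,74)],[]),(8,1,8,1,[(2,0,75),(2,0,57),(1,0,75)],[]),(18,10,8,1,[(2,0,34),(1,0,76)],[]),(18,10,8,1,[(1,0,77)],[]),(8,2,8,1,[(2,0,78),(2,0,42),(1,0,78)],[]),(7,10,8,1,[(1,0,12),(1,0,79)],[]),(8,10,7,1,[(2,0,80)],[]),(7,8,1,1,[(2,0,81),(1,0,13)],[]),(0,10,1,1,[(1,0,6),(1,0,82)],[]),(1,10,0,1,[(2,0,83)],[]),(0,2,0,1,[(2,0,84),(2,0,0)],[]),(0,2,0,1,[(2,0,85)],[])]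

def patch2 : Patch := (patch2d0, patch2f0)

def patch3d0 : List (ℕ × ℕ) := [(0,3),(0,4),(0,6),(0,7),(0,8),(4,3),(3,4),(5,4),(5,6),(5,7),(1,2),(5,3),(12,8),(13,3),(14,2),(15,7),(6,5),(14,7),(8,6),(7,5)]

def patch3f0 : List Fact := [(0,3,1,0,[],[]),(0,4,2,0,[],[]),(0,6,3,0,[],[]),(0,7,4,0,[],[]),(0,8,5,0,[],[]),(5,0,5,10,[(1,0,4)],[(0,0,0),(1,0,4)]),(4,1,4,18,[(1,0,3)],[(0,1,0),(1,0,3)]),(3,2,3,25,[(1,0,2)],[(0,2,0),(1,0,2)]),(5,2,5,27,[(1,0,4)],[(0,2,0),(1,0,4)]),(4,3,6,0,[],[]),(6,7,1,33,[(1,0,3),(1,0,9)],[(1,0,0)]),(3,4,7,0,[],[]),(7,6,2,38,[(1,0,2),(1,0,11)],[(1,0,1)]),(5,4,8,0,[],[]),(8,8,2,40,[(1,0,4),(1,0,13)],[(1,0,1)]),(5,6,9,0,[],[]),(5,7,10,0,[],[]),(10,8,4,52,[(1,0,4),(1,0,16)],[(1,0,3)]),(1,2,11,0,[],[]),(11,3,11,22,[(1,0,0),(1,0,18)],[(0,2,0),(1,0,0),(1,0,18)]),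(5,3,12,0,[],[]),(12,8,13,0,[],[]),(13,3,14,0,[],[]),(14,8,1,34,[(1,0,4),(1,0,20),(1,0,21),(1,0,22)],[(1,0,0)]),(14,2,15,0,[],[]),(15,7,16,0,[],[]),(9,0,9,8,[(1,0,15)],[(2,0,5),(1,0,15)]),(6,1,6,14,[(1,0,9)],[(2,0,6),(1,0,9)]),(7,2,7,23,[(1,0,11)],[(2,0,7),(1,0,11)]),(10,2,10,26,[(1,0,16)],[(2,0,8),(1,0,16)]),(15,8,11,27,[(2,0,23),(1,0,24)],[(1,0,18)]),(6,5,17,0,[],[]),(14,7,18,0,[],[]),(18,8,6,52,[(2,0,23),(1,0,32)],[(2,0,10)]),(18,2,16,26,[(1,0,32)],[(1,0,24),(1,0,25)]),(9,4,17,59,[(2,0,9),(2,0,17),(2,0,29),(2,0,16),(1,0,15),(2,0,26)],[(2,0,27),(1,0,31)]),(8,6,19,0,[],[]),(19,8,7,49,[(2,0,14),(1,0,36)],[(2,0,12)]),(7,5,20,0,[],[]),(20,2,20,24,[(1,0,38)],[(2,0,28),(1,0,38)]),(19,10,17,38,[(1,0,36)],[(2,0,13),(1,0,15),(1,0,35)]),(19,10,17,1,[(1,0,40)],[]),(17,8,7,1,[(2,0,41),(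1,0,37)],[]),(18,10,20,45,[(2,0,42),(2,0,31),(2,0,33)],[(1,0,38)]),(20,10,18,1,[(2,0,43)],[]),(18,2,18,1,[(2,0,44),(2,0,39),(1,0,44)],[]),(16,10,18,1,[(2,0,34),(1,0,45)],[]),(18,10,16,1,[(2,0,46)],[]),(16,7,14,1,[(2,0,47),(2,0,32)],[]),(15,10,14,1,[(1,0,25),(1,0,48)],[]),(15,10,14,1,[(1,0,49)],[]),(14,8,11,1,[(2,0,50),(1,0,30)],[]),(1,10,11,1,[(2,0,23),(1,0,51)],[]),(11,10,1,1,[(2,0,52)],[]),(1,3,1,1,[(2,0,53),(2,0,19),(1,0,53)],[]),(0,10,1,1,[(1,0,0),(1,0,54)],[]),(1,10,0,1,[(2,0,55)],[]),(0,3,0,1,[(2,0,56),(2,0,0)],[]),(0,3,0,1,[(2,0,57)],[])]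

def patch3 : Patch := (patch3d0, patch3f0)

def patch4d0 : List (ℕ × ℕ) := [(0,5),(0,7),(0,8),(3,5),(3,7),(3,3),(1,4),(2,6),(5,6),(4,4)]

def patch4f0 : List Fact := [(0,5,1,0,[],[]),(0,7,2,0,[],[]),(0,8,3,0,[],[]),(1,0,1,7,[(1,0,0)],[(0,0,0),(1,0,0)]),(2,0,2,9,[(1,0,1)],[(0,0,0),(1,0,1)]),(3,1,3,19,[(1,0,2)],[(0,1,0),(1,0,2)]),(3,2,3,27,[(1,0,2)],[(0,2,0),(1,0,2)]),(3,5,4,0,[],[]),(4,8,1,45,[(1,0,2),(1,0,7)],[(1,0,0)]),(3,7,5,0,[],[]),(5,8,2,52,[(1,0,2),(1,0,9)],[(1,0,1)]),(3,3,6,0,[],[]),(6,8,6,34,[(1,0,2),(1,0,11)],[(0,3,0),(1,0,2),(1,0,11)]),(1,4,7,0,[],[]),(2,6,8,0,[],[]),(5,6,9,0,[],[]),(9,0,7,59,[(0,3,0),(1,0,2),(2,0,6),(1,0,9),(1,0,15)],[(0,1,0),(1,0,0),(1,0,13)]),(4,4,10,0,[],[]),(9,10,7,6,[(1,0,13),(2,0,16)],[(2,0,3),(1,0,13)]),(9,10,7,1,[(1,0,18)],[]),(7,6,5,1,[(2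,0,19),(2,0,15)],[]),(8,0,8,8,[(1,0,14)],[(2,0,4),(1,0,14)]),(10,8,7,40,[(2,0,8),(1,0,17)],[(1,0,13)]),(10,10,8,49,[(2,0,10),(2,0,20),(2,0,22)],[(1,0,14)]),(10,10,8,1,[(1,0,23)],[]),(8,4,4,1,[(2,0,24),(2,0,17)],[]),(6,10,0,59,[(1,0,11),(2,0,12)],[(2,0,5),(1,0,7),(2,0,25),(2,0,21),(2,0,14),(2,0,1),(0,2,0)]),(6,10,0,1,[(1,0,26)],[]),(0,3,3,1,[(2,0,27),(2,0,11)],[]),(0,10,3,1,[(0,3,0),(1,0,28)],[]),(3,10,0,1,[(2,0,29)],[]),(0,8,0,1,[(2,0,30),(2,0,2)],[]),(0,8,0,1,[(2,0,31)],[])]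

def patch4 : Patch := (patch4d0, patch4f0)

def patch5d0 : List (ℕ × ℕ) := [(0,4),(0,5),(0,6),(0,7),(4,4),(2,4),(3,5),(7,6),(8,5),(4,6),(6,3)]

def patch5f0 : List Fact := [(0,4,1,0,[],[]),(0,5,2,0,[],[]),(0,6,3,0,[],[]),(0,7,4,0,[],[]),(2,0,2,7,[(1,0,1)],[(0,0,0),(1,0,1)]),(2,3,2,31,[(1,0,1)],[(0,3,0),(1,0,1)]),(4,3,4,33,[(1,0,3)],[(0,3,0),(1,0,3)]),(4,4,5,0,[],[]),(5,7,1,39,[(1,0,3),(1,0,7)],[(1,0,0)]),(2,4,6,0,[],[]),(3,5,7,0,[],[]),(7,6,8,0,[],[]),(8,5,9,0,[],[]),(9,6,2,43,[(1,0,2),(1,0,10),(1,0,11),(1,0,12)],[(1,0,1)]),(4,6,10,0,[],[]),(10,0,6,59,[(0,3,0),(0,8,0),(0,2,0),(1,0,3),(1,0,14)],[(0,1,0),(1,0,1),(1,0,9)]),(6,3,11,0,[],[]),(10,10,6,6,[(1,0,9),(2,0,15)],[(2,0,4),(1,0,9)]),(10,10,6,1,[(1,0,17)],[]),(6,6,4,1,[(2,0,18),(2,0,14)],[]),(11,10,6,32,[(2,0,19),(1,0,16)],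[(2,0,6),(2,0,19)]),(11,10,6,1,[(1,0,20)],[]),(6,3,6,1,[(2,0,21),(2,0,16)],[]),(9,10,5,38,[(2,0,13)],[(1,0,9),(1,0,19),(1,0,7)]),(9,10,5,1,[(1,0,23)],[]),(5,6,2,1,[(2,0,24),(1,0,13)],[]),(6,10,2,30,[(1,0,9),(2,0,22),(2,0,9),(2,0,5),(1,0,9),(2,0,22)],[]),(6,10,2,1,[(1,0,26)],[]),(2,6,4,1,[(2,0,27),(1,0,19)],[]),(5,10,4,1,[(1,0,25),(1,0,28)],[]),(5,10,4,1,[(1,0,29)],[]),(4,7,1,1,[(2,0,30),(1,0,8)],[]),(0,10,1,1,[(1,0,3),(1,0,31)],[]),(1,10,0,1,[(2,0,32)],[]),(0,4,0,1,[(2,0,33),(2,0,0)],[]),(0,4,0,1,[(2,0,34)],[])]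

def patch5 : Patch := (patch5d0, patch5f0)

def patch6d0 : List (ℕ × ℕ) := [(0,5),(0,6),(0,7),(1,4),(2,5),(5,6),(6,5),(3,6)]

def patch6f0 : List Fact := [(0,5,1,0,[],[]),(0,6,2,0,[],[]),(0,7,3,0,[],[]),(1,0,1,7,[(1,0,0)],[(0,0,0),(1,0,0)]),(3,4,3,39,[(1,0,2)],[(0,4,0),(1,0,2)]),(1,4,4,0,[],[]),(4,5,4,37,[(1,0,0),(1,0,5)],[(0,4,0),(1,0,0),(1,0,5)]),(2,5,5,0,[],[]),(5,6,6,0,[],[]),(6,5,7,0,[],[]),(7,6,1,43,[(1,0,1),(1,0,7),(1,0,8),(1,0,9)],[(1,0,0)]),(3,6,8,0,[],[]),(8,0,4,59,[(0,3,0),(0,8,0),(0,2,0),(1,0,2),(1,0,11)],[(0,1,0),(1,0,0),(1,0,5)]),(8,10,4,6,[(1,0,5),(2,0,12)],[(2,0,3),(1,0,5)]),(8,10,4,1,[(1,0,13)],[]),(4,6,3,1,[(2,0,14),(2,0,11)],[]),(7,10,3,38,[(2,0,10)],[(1,0,5),(1,0,15),(2,0,4)]),(7,10,3,1,[(1,0,16)],[]),(3,6,1,1,[(2,0,17),(1,0,10)],[]),(4,10,1,1,[(1,0,15),(1,0,18)],[]),(4,10,1,1,[(1,0,19)],[]),(1,5,1,1,[(2,0,20),(2,0,6),(1,0,20)],[]),(0,10,1,1,[(1,0,0),(1,0,21)],[]),(1,10,0,1,[(2,0,22)],[]),(0,5,0,1,[(2,0,23),(2,0,0)],[]),(0,5,0,1,[(2,0,24)],[])]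

def patch6 : Patch := (patch6d0, patch6f0)

def patch7d0 : List (ℕ × ℕ) := [(0,6),(0,7),(1,5),(2,6)]

def patch7f0 : List Fact := [(0,6,1,0,[],[]),(0,7,2,0,[],[]),(2,5,2,44,[(1,0,1)],[(0,5,0),(1,0,1)]),(1,5,3,0,[],[]),(3,6,3,43,[(1,0,0),(1,0,3)],[(0,5,0),(1,0,0),(1,0,3)]),(2,6,4,0,[],[]),(4,10,0,59,[(0,3,0),(0,8,0),(0,2,0),(1,0,1),(1,0,5)],[(0,1,0),(0,5,0),(0,4,0),(0,0,0)]),(4,10,0,1,[(1,0,6)],[]),(0,6,2,1,[(2,0,7),(2,0,5)],[]),(1,10,2,1,[(2,0,0),(1,0,8)],[]),(2,10,1,1,[(2,0,9)],[]),(1,5,1,1,[(2,0,10),(2,0,2),(1,0,10)],[]),(3,10,1,1,[(2,0,3),(1,0,11)],[]),(3,10,1,1,[(1,0,12)],[]),(1,6,1,1,[(2,0,13),(2,0,4),(1,0,13)],[]),(0,10,1,1,[(1,0,0),(1,0,14)],[]),(1,10,0,1,[(2,0,15)],[]),(0,6,0,1,[(2,0,16),(2,0,0)],[]),(0,6,0,1,[(2,0,17)],[])]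

def patch7 : Patch := (patch7d0, patch7f0)

def patch8d0 : List (ℕ × ℕ) := [(0,9),(1,8)]

def patch8f0 : List Fact := [(0,9,1,0,[],[]),(1,0,1,11,[(1,0,0)],[(0,0,0),(1,0,0)]),(1,1,1,20,[(1,0,0)],[(0,1,0),(1,0,0)]),(1,2,1,28,[(1,0,0)],[(0,2,0),(1,0,0)]),(1,3,1,35,[(1,0,0)],[(0,3,0),(1,0,0)]),(1,4,1,41,[(1,0,0)],[(0,4,0),(1,0,0)]),(1,5,1,46,[(1,0,0)],[(0,5,0),(1,0,0)]),(1,6,1,50,[(1,0,0)],[(0,6,0),(1,0,0)]),(1,7,1,53,[(1,0,0)],[(0,7,0),(1,0,0)]),(1,8,2,0,[],[]),(2,9,2,55,[(1,0,0),(1,0,9)],[(0,8,0),(1,0,0),(1,0,9)]),(2,0,2,10,[(1,0,9)],[(2,0,1),(1,0,9)]),(2,1,2,19,[(1,0,9)],[(2,0,2),(1,0,9)]),(2,2,2,27,[(1,0,9)],[(2,0,3),(1,0,9)]),(2,4,2,40,[(1,0,9)],[(2,0,5),(1,0,9)]),(2,5,2,45,[(1,0,9)],[(2,0,6),(1,0,9)]),(2,6,2,49,[(1,0,9)],[(2,0,7),(1,0,9)]),(2,7,2,52,[(1,0,9)],[(2,0,8),(1,0,9)]),(2,10,1,59,[(2,0,4),(1,0,9),(2,0,13),(2,0,17),(2,0,16),(2,0,11),(2,0,14),(2,0,15),(2,0,12)],[]),(2,10,1,1,[(1,0,18)],[]),(1,9,1,1,[(2,0,19),(2,0,10),(1,0,19)],[]),(0,10,1,1,[(1,0,0),(1,0,20)],[]),(1,10,0,1,[(2,0,21)],[]),(0,9,0,1,[(2,0,22),(2,0,0)],[]),(0,9,0,1,[(2,0,23)],[])]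

def patch8 : Patch := (patch8d0, patch8f0)

def words : List (List ℕ) := [
  [0,0],
  [1,0,1,0,1,0],
  [2,0,2,0],
  [3,0,3,0],
  [4,0,4,0],
  [5,0,5,0],
  [6,0,6,0],
  [7,0,7,0],
  [8,0,8,0],
  [9,0,9,0],
  [1,1],
  [2,1,2,1,2,1],
  [3,1,3,1],
  [4,1,4,1],
  [5,1,5,1],
  [6,1,6,1],
  [7,1,7,1],
  [8,1,8,1],
  [9,1,9,1],
  [2,2],
  [3,2,3,2,3,2],
  [4,2,4,2],
  [5,2,5,2],
  [6,2,6,2],
  [7,2,7,2],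
  [8,2,8,2],
  [9,2,9,2],
  [3,3],
  [4,3,4,3,4,3],
  [5,3,5,3],
  [6,3,6,3],
  [7,3,7,3],
  [8,3,8,3,8,3],
  [9,3,9,3],
  [4,4],
  [5,4,5,4,5,4],
  [6,4,6,4],
  [7,4,7,4],
  [8,4,8,4],
  [9,4,9,4],
  [5,5],
  [6,5,6,5,6,5],
  [7,5,7,5],
  [8,5,8,5],
  [9,5,9,5],
  [6,6],
  [7,6,7,6,7,6],
  [8,6,8,6],
  [9,6,9,6],
  [7,7],
  [8,7,8,7],
  [9,7,9,7],
  [8,8],
  [9,8,9,8,9,8],
  [9,9],
  [9,8,3,5,4,3,1,2,3,9,8,3,5,4,3,1,2,3,9,8,3,5,4,3,1,2,3,9,8,3,5,4,3,1,2,3,9,8,3,5,4,3,1,2,3,9,8,3,5,4,3,1,2,3,9,8,3,5,4,3,1,2,3,9,8,3,5,4,3,1,2,3,9,8,3,5,4,3,1,2,3,9,8,3,5,4,3,1,2,3],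
  [8,5,4,3,2,1,0,8,5,4,3,2,1,0,8,5,4,3,2,1,0,8,5,4,3,2,1,0,8,5,4,3,2,1,0,8,5,4,3,2,1,0,8,5,4,3,2,1,0,8,5,4,3,2,1,0,8,5,4,3,2,1,0],
  [3,8,2,7,6,0,4,5,1]]

def data : Data := ⟨1, 10, tT, tM, tJ, tPA, words, 58, [patch0, patch1, patch2, patch3, patch4, patch5, patch6, patch7, patch8]⟩


end

end Fi23LC
end H93
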